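import Groth.Prelude.Def_FDesc
import Groth.Agent.DivDescLib.Local
import Groth.Agent.FComplLib.Modules
import Groth.Agent.GeomRedFieldLib.Reduction

/-!
# Lengths of local rings at generic points under extension of the base field
-/

set_option autoImplicit false
set_option maxSynthPendingDepth 4
set_option backward.isDefEq.respectTransparency false
set_option backward.isDefEq.respectTransparency.types false

universe u

open CategoryTheory CategoryTheory.Limits AlgebraicGeometry IsLocalRing

namespace IntTensorLib

theorem length_eq_length_quot_ker {R S : Type u} [CommRing R] [CommRing S] (φ : R →+* S)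
    (hφ : Function.Surjective φ) : Module.length S S = Module.length R (R ⧸ RingHom.ker φ) := by
  letI := φ.toAlgebra
  rw [← Module.length_eq_of_surjective (R := S) (S := R) (M := S) hφ]
  exact ((Submodule.quotEquivOfEq _ _ (by ext r; rfl)).trans
    (LinearMap.quotKerEquivOfSurjective (Algebra.linearMap R S) hφ)).length_eq.symm

/-- The maximal ideal of the local ring at a point without proper generizations consists of nilpotents. -/
theorem isNilpotent_of_mem_maximal {X : Scheme.{u}} {x : X} (hx : ∀ y, y ⤳ x → y = x)
    {a : X.presheaf.stalk x} (ha : a ∈ maximalIdeal (X.presheaf.stalk x)) : IsNilpotent a := by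
  refine nilpotent_iff_mem_prime.mpr fun J hJ => ?_
  have e : (⟨J, hJ⟩ : PrimeSpectrum (X.presheaf.stalk x)) = closedPoint (X.presheaf.stalk x) := by
    refine (X.fromSpecStalk x).isEmbedding.injective ?_
    have h : ∀ q, X.fromSpecStalk x q = x := fun q => hx _ (by
      have : X.fromSpecStalk x q ∈ Set.range (X.fromSpecStalk x) := ⟨q, rfl⟩
      rwa [Scheme.range_fromSpecStalk] at this)
    rw [h, h]
  have e' : J = maximalIdeal (X.presheaf.stalk x) := congrArg PrimeSpectrum.asIdeal e
  exact e' ▸ ha

theorem ker_stalkMap_eq_stalkIdeal {Z X : Scheme.{u}} (i : Z ⟶ X) [IsClosedImmersion i] (z : Z) :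
    RingHom.ker (i.stalkMap z).hom = IntMult.stalkIdeal i.ker (i z) := by
  obtain ⟨W, hW, hxW, -⟩ := exists_isAffineOpen_mem_and_subset (x := i z) (U := ⊤) trivial
  rw [FComplLib.ker_stalkMap i z ⟨W, hW⟩ hxW, SDivLib.stalkIdeal_eq _ ⟨W, hW⟩ hxW]

/-- The stalk of the nilradical at a point without proper generizations is the maximal ideal. -/
theorem stalkIdeal_nilradical {X : Scheme.{u}} {x : X} (hx : ∀ y, y ⤳ x → y = x)
    (z : X.nilradical.subscheme) (hz : X.nilradical.subschemeι z = x) :
    IntMult.stalkIdeal X.nilradical x = maximalIdeal (X.presheaf.stalk x) := by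
  subst hz
  haveI : IsReduced X.nilradical.subscheme := GeomRedFieldLib.isReduced_nilradical X
  have h := ker_stalkMap_eq_stalkIdeal X.nilradical.subschemeι z
  rw [Scheme.IdealSheafData.ker_subschemeι] at h
  rw [← h]
  refine le_antisymm (le_maximalIdeal (RingHom.ker_ne_top _)) fun a ha => ?_
  rw [RingHom.mem_ker]
  exact ((isNilpotent_of_mem_maximal hx ha).map (X.nilradical.subschemeι.stalkMap z).hom).eq_zero

/-- Lengths multiply along a flat morphism, the special fibre being the pulled back reduction. -/
theorem length_stalk_eq_mul {X' X'' Z : Scheme.{u}} (π : X'' ⟶ X') [Flat π] (i : Z ⟶ X'') [IsClosedImmersion i]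
    (p : Z ⟶ X'.nilradical.subscheme) (hp : IsPullback i p π X'.nilradical.subschemeι) (z : Z)
    (hx : ∀ y, y ⤳ π (i z) → y = π (i z)) :
    Module.length (X''.presheaf.stalk (i z)) (X''.presheaf.stalk (i z)) =
      Module.length (X'.presheaf.stalk (π (i z))) (X'.presheaf.stalk (π (i z))) *
        Module.length (Z.presheaf.stalk z) (Z.presheaf.stalk z) := by
  have hker : i.ker = X'.nilradical.comap π := by
    rw [← hp.isoPullback_hom_fst]
    exact Scheme.Hom.ker_comp_of_isIso _ _
  have hN : IntMult.stalkIdeal X'.nilradical (π (i z)) = maximalIdeal (X'.presheaf.stalk (π (i z))) :=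
    stalkIdeal_nilradical hx (p z) (by rw [← Scheme.Hom.comp_apply, ← hp.w, Scheme.Hom.comp_apply])
  letI : Algebra (X'.presheaf.stalk (π (i z))) (X''.presheaf.stalk (i z)) := (π.stalkMap (i z)).hom.toAlgebra
  haveI : Module.Flat (X'.presheaf.stalk (π (i z))) (X''.presheaf.stalk (i z)) := Flat.stalkMap π (i z)
  haveI : IsLocalHom (algebraMap (X'.presheaf.stalk (π (i z))) (X''.presheaf.stalk (i z))) :=
    inferInstanceAs (IsLocalHom (π.stalkMap (i z)).hom)
  have hk : RingHom.ker (i.stalkMap z).hom = (maximalIdeal (X'.presheaf.stalk (π (i z)))).map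
      (algebraMap (X'.presheaf.stalk (π (i z))) (X''.presheaf.stalk (i z))) := by
    rw [ker_stalkMap_eq_stalkIdeal, hker, DivDescLib.stalkIdeal_comap, hN]
    rfl
  rw [length_eq_length_quot_ker (i.stalkMap z).hom (i.stalkMap_surjective z), hk,
    ← IsLocalRing.length_baseChange (X'.presheaf.stalk (π (i z))) (X''.presheaf.stalk (i z))]
  exact (Algebra.TensorProduct.rid (X'.presheaf.stalk (π (i z))) (X''.presheaf.stalk (i z))
    (X''.presheaf.stalk (i z))).toLinearEquiv.length_eq.symm

/-- The reduction is compatible with base change of a projection. -/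
theorem isPullback_reduction_bc {k' k'' : Type u} [Field k'] [Field k''] [Algebra k' k''] {Y : Scheme.{u}}
    (s : Y ⟶ Spec (CommRingCat.of k')) :
    IsPullback (pullback.map (Y.nilradical.subschemeι ≫ s) (Spec.map (CommRingCat.ofHom (algebraMap k' k''))) s
        (Spec.map (CommRingCat.ofHom (algebraMap k' k''))) Y.nilradical.subschemeι (𝟙 _) (𝟙 _)
        (Category.comp_id _) ((Category.comp_id _).trans (Category.id_comp _).symm))
      (pullback.fst (Y.nilradical.subschemeι ≫ s) (Spec.map (CommRingCat.ofHom (algebraMap k' k''))))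
      (pullback.fst s (Spec.map (CommRingCat.ofHom (algebraMap k' k'')))) Y.nilradical.subschemeι := by
  refine IsPullback.of_right ?_ (by simp)
    (IsPullback.of_hasPullback s (Spec.map (CommRingCat.ofHom (algebraMap k' k'')))).flip
  simpa using (IsPullback.of_hasPullback (Y.nilradical.subschemeι ≫ s) (Spec.map (CommRingCat.ofHom (algebraMap k' k'')))).flip

end IntTensorLib
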